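import Mathlib.AlgebraicGeometry.Morphisms.Immersion
import Mathlib.AlgebraicGeometry.Morphisms.Separated
import Mathlib.AlgebraicGeometry.IdealSheaf.Functorial
import Mathlib.CategoryTheory.Monoidal.Cartesian.Grp
import Mathlib.CategoryTheory.LocallyCartesianClosed.Over

/-!
# Aligned subgroups: closures of unit sections

* `isSeparated_of_isClosedImmersion_one`: a group scheme with closed unit section is separated.
* `exists_section_restrict`: the scheme-theoretic closure of a section, restricted to an open of the base over which
  the scheme is separated, is the section.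
-/

set_option autoImplicit false
set_option linter.style.haveILetI false
set_option backward.isDefEq.respectTransparency.types false

universe u

open CategoryTheory Limits MonoidalCategory CartesianMonoidalCategory MonObj AlgebraicGeometry

namespace Groth.Agent.Aligned15

/-- A group scheme whose unit section is a closed immersion is separated. -/
theorem isSeparated_of_isClosedImmersion_one {S : Scheme.{u}} (H : Over S) [GrpObj H]
    [IsClosedImmersion η[H].left] : IsSeparated H.hom := by
  let m : H ⊗ H ⟶ H := fst H H * (snd H H)⁻¹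
  let Δ : H ⟶ H ⊗ H := lift (𝟙 H) (𝟙 H)
  have hΔm : Δ ≫ m = toUnit H ≫ η[H] := by
    simp only [m, MonObj.comp_mul, GrpObj.comp_inv, Δ, lift_fst, lift_snd, mul_inv_cancel, Hom.one_def]
  have hw : Δ ≫ m = toUnit H ≫ η[H] := hΔm
  have hP : IsPullback Δ (toUnit H) m η[H] := by
    refine ⟨⟨hw⟩, ⟨PullbackCone.IsLimit.mk hw (fun s => s.fst ≫ fst H H) (fun s => ?_)
      (fun s => toUnit_unique _ _) (fun s l h1 _ => ?_)⟩⟩
    · have h : s.fst ≫ fst H H = s.fst ≫ snd H H := by
        have := s.condition
        simp only [m, MonObj.comp_mul, GrpObj.comp_inv] at this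
        rw [toUnit_unique s.snd (toUnit _), ← Hom.one_def] at this
        exact mul_inv_eq_one.1 this
      exact CartesianMonoidalCategory.hom_ext _ _ (by simp [Δ]) (by simp [Δ, h])
    · rw [← h1]; simp [Δ]
  have hd : Δ.left = pullback.diagonal H.hom := by
    apply pullback.hom_ext
    · rw [pullback.diagonal_fst]
      exact congrArg CommaMorphism.left (lift_fst (𝟙 H) (𝟙 H))
    · rw [pullback.diagonal_snd]
      exact congrArg CommaMorphism.left (lift_snd (𝟙 H) (𝟙 H))
  refine ⟨?_⟩
  rw [← hd]
  exact MorphismProperty.of_isPullback (P := @IsClosedImmersion) (hP.map (Over.forget _)).flip ‹_›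

/-- Over an open `W` of the base over which `f` is separated, the scheme-theoretic closure of a section `e` of `f`
is the section: the projection of its restriction to `W` is inverse to the section. -/
theorem fst_subschemeι_eq {S H W : Scheme.{u}} (f : H ⟶ S) (e : S ⟶ H) (he : e ≫ f = 𝟙 S) (w : W ⟶ S)
    [IsOpenImmersion w] [QuasiCompact e] (h0 : IsSeparated (pullback.snd f w)) :
    pullback.fst (e.ker.subschemeι ≫ f) w ≫ e.ker.subschemeι =
      pullback.fst (e.ker.subschemeι ≫ f) w ≫ (e.ker.subschemeι ≫ f) ≫ e := by
  set iE := e.ker.subschemeι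
  set p := pullback.fst f w
  let e₀ : W ⟶ pullback f w := pullback.lift (w ≫ e) (𝟙 W) (by simp [he])
  let a : pullback (iE ≫ f) w ⟶ pullback f w :=
    pullback.lift (pullback.fst _ _ ≫ iE) (pullback.snd _ _) (by rw [Category.assoc, pullback.condition])
  have hR : IsPullback (pullback.snd f w) p w f := (IsPullback.of_hasPullback f w).flip
  have hO₁ : IsPullback (e₀ ≫ pullback.snd f w) w w (e ≫ f) := by
    rw [pullback.lift_snd, he]; exact IsPullback.of_horiz_isIso ⟨by simp⟩
  have hP₁ : IsPullback e₀ w p e := IsPullback.of_right hO₁ (pullback.lift_fst _ _ _) hR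
  have hO₂ : IsPullback (a ≫ pullback.snd f w) (pullback.fst (iE ≫ f) w) w (iE ≫ f) := by
    rw [pullback.lift_snd]; exact (IsPullback.of_hasPullback (iE ≫ f) w).flip
  have hP₂ : IsPullback a (pullback.fst (iE ≫ f) w) p iE := IsPullback.of_right hO₂ (pullback.lift_fst _ _ _) hR
  haveI : IsClosedImmersion a := MorphismProperty.of_isPullback (P := @IsClosedImmersion) hP₂.flip inferInstance
  haveI : IsClosedImmersion e₀ := by
    haveI : IsClosedImmersion (e₀ ≫ pullback.snd f w) := by rw [pullback.lift_snd]; infer_instance
    exact IsClosedImmersion.of_comp e₀ (pullback.snd f w)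
  have hker : a.ker = e₀.ker := by
    refine Scheme.IdealSheafData.ext (funext fun V => ?_)
    rw [Scheme.ker_ideal_of_isPullback_of_isOpenImmersion iE a _ p hP₂ V,
      Scheme.ker_ideal_of_isPullback_of_isOpenImmersion e e₀ _ p hP₁ V, Scheme.IdealSheafData.ker_subschemeι]
  have h := IsClosedImmersion.lift_fac e₀ a hker.ge
  have h1 := congrArg (· ≫ pullback.snd f w) h
  simp only [Category.assoc, a, e₀, pullback.lift_snd, Category.comp_id] at h1
  have h2 := congrArg (· ≫ p) h
  simp only [Category.assoc, a, e₀, p, pullback.lift_fst] at h2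
  rw [← h2, reassoc_of% h1, pullback.condition_assoc]

end Groth.Agent.Aligned15
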