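import Groth.Agent.Lib.Aligned15.Basic
import Groth.Agent.Lib.NormalExt19.Basic
import Groth.Agent.Lib.MTRigid29.TwConstUnibranch

/-!
# The closure of a section of an etale morphism to a normal scheme
-/

set_option autoImplicit false
set_option linter.style.haveILetI false
set_option backward.isDefEq.respectTransparency.types false

universe u

open CategoryTheory Limits AlgebraicGeometry

namespace Groth.Agent.Aligned15

/-- A dominant quasi-compact morphism to a reduced scheme has trivial kernel. -/
theorem ker_eq_bot_of_isDominant {X Y : Scheme.{u}} (f : X ⟶ Y) [QuasiCompact f] [IsDominant f] [IsReduced Y] :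
    f.ker = ⊥ := by
  refine le_bot_iff.1 fun V a ha => ?_
  have hsupp : ∀ y : Y, y ∈ f.ker.support := fun y => by
    have : y ∈ (f.ker.support : Set Y) := by
      rw [f.support_ker, f.denseRange.closure_range]; trivial
    exact this
  have hbot : Y.basicOpen a = ⊥ := by
    refine TopologicalSpace.Opens.ext (Set.eq_empty_iff_forall_notMem.2 fun y hy => ?_)
    have hyV : y ∈ V.1 := Y.basicOpen_le a hy
    have h := (Scheme.IdealSheafData.mem_support_iff_of_mem hyV).1 (hsupp y)
    exact (Scheme.mem_zeroLocus_iff _ _ _).1 h a ha hy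
  rw [Scheme.IdealSheafData.ideal_bot]
  exact (basicOpen_eq_bot_iff a).1 hbot

/-- In a normal scheme with locally finitely many components, closures of opens are open. -/
theorem isOpen_closure_of_isOpen {Z : Scheme.{u}} (hZ : Pi1.IsNormalScheme Z)
    (hfin : MTRigid29.LocFinGen Z) (O : Z.Opens) : IsOpen (closure (O : Set Z)) := by
  have huni : ∀ x : Z, CAlg2.IsUnibranch (Z.presheaf.stalk x) := fun x => by
    haveI := (hZ x).1
    haveI := (hZ x).2
    exact (Branch14.isGeomUnibranch_of_isIntegrallyClosed (A := Z.presheaf.stalk x)).1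
  refine isOpen_iff_forall_mem_open.2 fun x hx => ?_
  obtain ⟨l, hl, hlx, -⟩ := MTRigid29.exists_unique_isGen x (huni x)
  have hc := MTRigid29.isClopen_closure huni hfin hl
  obtain ⟨y, hyl, hyO⟩ := mem_closure_iff.1 hx _ hc.isOpen (specializes_iff_mem_closure.1 hlx)
  have hlO : l ∈ O := (specializes_iff_mem_closure.2 hyl).mem_open O.2 hyO
  exact ⟨_, closure_mono (Set.singleton_subset_iff.2 hlO), hc.isOpen, specializes_iff_mem_closure.1 hlx⟩

/-- A section of an etale morphism from a normal scheme, followed by a closed immersion, has etale closure. -/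
theorem etale_ker_subschemeι {S Z G : Scheme.{u}} [IsLocallyNoetherian S] (hZ : Pi1.IsNormalScheme Z)
    (π : Z ⟶ S) [Etale π] (s : S ⟶ Z) (hs : s ≫ π = 𝟙 S) (i : Z ⟶ G) [IsClosedImmersion i]
    (p : G ⟶ S) (hi : i ≫ p = π) : Etale ((s ≫ i).ker.subschemeι ≫ p) := by
  haveI : IsLocallyNoetherian Z := LocallyOfFiniteType.isLocallyNoetherian π
  haveI : IsReduced Z := by
    haveI : ∀ x : Z, _root_.IsReduced (Z.presheaf.stalk x) := fun x => by
      haveI := (hZ x).1
      infer_instance
    exact isReduced_of_isReduced_stalk Z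
  haveI : Etale (s ≫ π) := by rw [hs]; infer_instance
  haveI : Etale s := Etale.of_comp s π
  let O : Z.Opens := ⟨Set.range s, s.isOpenMap.isOpen_range⟩
  let U : Z.Opens := ⟨closure (O : Set Z), isOpen_closure_of_isOpen hZ (MTRigid29.locFinGen_of_noetherian Z) O⟩
  haveI : IsClosedImmersion U.ι := .of_isPreimmersion _ (by rw [Scheme.Opens.range_ι]; exact isClosed_closure)
  let s' : S ⟶ U.toScheme := IsOpenImmersion.lift U.ι s (by rw [Scheme.Opens.range_ι]; exact subset_closure)
  have hs' : s' ≫ U.ι = s := IsOpenImmersion.lift_fac _ _ _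
  haveI : QuasiCompact (s' ≫ U.ι ≫ π) := by rw [reassoc_of% hs', hs]; infer_instance
  haveI : QuasiCompact s' := QuasiCompact.of_comp s' (U.ι ≫ π)
  haveI : IsDominant s' := ⟨fun z => by
    rw [U.ι.isEmbedding.closure_eq_preimage_closure_image, Set.mem_preimage, ← Set.range_comp]
    have : (U.ι ∘ s' : S → Z) = s := funext fun a => congrArg (fun m : S ⟶ Z => m a) hs'
    erw [this]
    exact z.2⟩
  have hk : (s ≫ i).ker = (U.ι ≫ i).ker := by
    rw [← hs', Category.assoc, Scheme.Hom.ker_comp, ker_eq_bot_of_isDominant s', Scheme.IdealSheafData.map_bot]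
  rw [hk]
  have hfac : (U.ι ≫ i).toImage ≫ (U.ι ≫ i).ker.subschemeι = U.ι ≫ i := Scheme.Hom.toImage_imageι _
  have : (U.ι ≫ i).ker.subschemeι ≫ p = inv (U.ι ≫ i).toImage ≫ U.ι ≫ π := by
    rw [IsIso.eq_inv_comp, reassoc_of% hfac, hi]
  rw [this]
  infer_instance

end Groth.Agent.Aligned15
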